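import Groth.Agent.Lib.ShriekLine22.DiagChart
import Groth.Agent.Lib.ShriekPerf22.Etale
import Groth.Agent.Lib.RightAdj20.PullDual
import Groth.Agent.Lib.Dual22.DualMap
import Groth.Agent.Lib.ShriekBridge22.Stalks
import Groth.Agent.Lib.DualRing.ShriekOpen

/-! # The upper shriek of the affine line -/

set_option autoImplicit false
set_option maxHeartbeats 1000000
set_option linter.style.haveILetI false
set_option backward.isDefEq.respectTransparency false
universe u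

open CategoryTheory CategoryTheory.Limits AlgebraicGeometry GrothLib.OX GrothLib.RightAdj22

attribute [local instance] HasDerivedCategory.standard
attribute [local instance] GrothLib.DualRing.Shriek.pfl_of_flat

noncomputable section

namespace GrothLib.ShriekLine22

/-- Tensoring with the shifted unit is the shift, naturally. -/
theorem nonempty_ltensor_unit_shift (X : Scheme.{u}) (n : ℤ) [DCoh.HasLTensorCx ((unitCx X)⟦n⟧)] :
    Nonempty (DCoh.LTensorCx ((unitCx X)⟦n⟧) ≅ shiftFunctor (DCoh.D X) n) := by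
  let T := (unitCx X)⟦n⟧
  have hT : DCoh.IsKFlat T := Dual22.isKFlat_shift (isKFlat_single _ (flat_structureModule _) 0) n
  let W := HomologicalComplex.quasiIso X.Modules (ComplexShape.up ℤ)
  let F : CochainComplex X.Modules ℤ ⥤ DCoh.D X := tensR T ⋙ DerivedCategory.Q
  letI : Localization.Lifting DerivedCategory.Q W F (DCoh.LTensorCx T) := ⟨ltensorFac T hT⟩
  letI : Localization.Lifting DerivedCategory.Q W F (shiftFunctor (DCoh.D X) n) :=
    ⟨(DerivedCategory.Q.commShiftIso n).symm ≪≫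
      Functor.isoWhiskerRight ((Functor.leftUnitor _).symm ≪≫
        Functor.isoWhiskerRight (singleUnitNatIso (X := X)).symm _ ≪≫ (Dual22.tensRShiftIso (unitCx X) n).symm)
        DerivedCategory.Q⟩
  exact ⟨Localization.liftNatIso DerivedCategory.Q W F F _ _ (Iso.refl _)⟩

/-- The algebraic upper shriek of a polynomial ring in one variable. -/
theorem nonempty_GP_of_bijective {R B : Type u} [CommRing R] [CommRing B] [Algebra R B] [Module.Flat R B]
    (ψ : MvPolynomial (Fin 1) R →ₐ[R] B) (hψ : Function.Bijective ψ) :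
    Nonempty (DualRing.Shriek.GP ψ (Dual.inD R R) ≅ (Dual.inD B B)⟦(1 : ℤ)⟧) := by
  let e : MvPolynomial (Fin 1) R ≃+* B := RingEquiv.ofBijective ψ.toRingHom hψ
  haveI : PreservesFiniteLimits (ModuleCat.extendScalars.{u, u, u} e.toRingHom) :=
    GrothLib.DR.preservesFiniteLimits_extendScalars _ (RingHom.Flat.of_bijective e.bijective)
  obtain ⟨g⟩ := DualRing.Shriek.nonempty_G_iso (algebraMap R (MvPolynomial (Fin 1) R)) e (algebraMap R B)
    (RingHom.ext fun r => (ψ.commutes r).symm) ψ.toRingHom (RingHom.id B) (RingHom.ext fun _ => rfl) (1 : ℤ)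
    (Dual.inD R R)
  obtain ⟨b⟩ := DualRing.Shriek.nonempty_bcD_self (R := R) (P := B)
  let rId : DualRing.Shriek.RA (RingHom.id B) ≅ 𝟭 (Dual.D B) :=
    ((DualRing.Shriek.radj (RingHom.id B)).ofNatIsoLeft DualRing.Shriek.resDSelf).rightAdjointUniq Adjunction.id
  exact ⟨g.symm ≪≫ (shiftFunctor (Dual.D B) (1 : ℤ)).mapIso (rId.app _ ≪≫ b)⟩

variable {Y : Scheme.{u}}

instance flat_affineSpace (n : Type u) (S : Scheme.{u}) : Flat (AffineSpace n S ↘ S) :=
  MorphismProperty.pullback_fst _ _ <| by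
  have := isIso_of_isTerminal specULiftZIsTerminal.{u} terminalIsTerminal (terminal.from _)
  rw [← terminal.comp_from (Spec.map (CommRingCat.ofHom (MvPolynomial.C : ULift.{u} ℤ →+* MvPolynomial n (ULift.{u} ℤ)))),
    MorphismProperty.cancel_right_of_respectsIso (P := @Flat),
    HasRingHomProperty.Spec_iff (P := @Flat)]
  exact RingHom.flat_algebraMap_iff.2 (inferInstance : Module.Flat (ULift.{u} ℤ) (MvPolynomial n (ULift.{u} ℤ)))

/-- **`f^!O` is locally `O[1]`.** -/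
theorem exists_chart_shriek [AlgebraicGeometry.IsNoetherian Y] (σ : Type u) [Unique σ]
    (c : DEt.Compactification (AffineSpace σ Y ↘ Y)) [DCoh.HasRpush c.fbar]
    (hc : DCoh.RpushPreservesQCoh c.fbar) {a : DCoh.DQCoh Y ⥤ DCoh.DQCoh c.Xbar}
    (adj : DCoh.RpushQ c.fbar hc ⊣ a) [PreservesFiniteLimits (Scheme.Modules.restrictFunctor c.j)]
    (O : DCoh.DQCoh Y) (hO : Nonempty (O.obj ≅ DCoh.inD Y (Coh.structureModule Y))) (x : AffineSpace σ Y) :
    ∃ (W : Scheme.{u}) (j : W ⟶ AffineSpace σ Y) (_ : IsOpenImmersion j), x ∈ Set.range j ∧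
      Nonempty ((resD j).obj ((Dual3.shriekC c a).obj O) ≅ (DerivedCategory.Q.obj (unitCx W))⟦(1 : ℤ)⟧) := by
  let f := AffineSpace σ Y ↘ Y
  obtain ⟨V, hV, hy, -⟩ := exists_isAffineOpen_mem_and_subset (x := f x) (U := ⊤) trivial
  haveI := IsLocallyNoetherian.component_noetherian ⟨V, hV⟩
  let B := MvPolynomial σ Γ(Y, V)
  let jB : Spec (CommRingCat.of B) ⟶ AffineSpace σ Y :=
    (AffineSpace.SpecIso σ Γ(Y, V)).inv ≫ AffineSpace.map σ hV.fromSpec
  have w : jB ≫ f = Spec.map (CommRingCat.ofHom (algebraMap Γ(Y, V) B)) ≫ hV.fromSpec := by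
    rw [Category.assoc, AffineSpace.map_over, AffineSpace.SpecIso_inv_over_assoc]
    rfl
  haveI : IsOpenImmersion (AffineSpace.map σ hV.fromSpec) :=
    MorphismProperty.of_isPullback (P := @IsOpenImmersion) (AffineSpace.isPullback_map hV.fromSpec).flip inferInstance
  haveI : IsOpenImmersion jB :=
    IsOpenImmersion.comp (f := (AffineSpace.SpecIso σ Γ(Y, V)).inv) (g := AffineSpace.map σ hV.fromSpec)
  let ψ : MvPolynomial (Fin 1) Γ(Y, V) →ₐ[Γ(Y, V)] B :=
    (MvPolynomial.renameEquiv Γ(Y, V) (Equiv.ofUnique (Fin 1) σ)).toAlgHom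
  have hψ : Function.Bijective ψ := (MvPolynomial.renameEquiv Γ(Y, V) (Equiv.ofUnique (Fin 1) σ)).bijective
  obtain ⟨eV⟩ := ShriekBridge22.nonempty_resD_unit (A := Γ(Y, V)) hV.fromSpec hO
  obtain ⟨ec⟩ := ShriekBridge22.nonempty_shriekC_chart c hc adj hV.fromSpec jB w ψ hψ.2 O 0
    (ShriekBridge22.isGE_zero_of_iso_structure hO) _ eV
  obtain ⟨g⟩ := nonempty_GP_of_bijective ψ hψ
  refine ⟨_, jB, inferInstance, ?_, ⟨ec ≪≫ (DCoh.tildeD (CommRingCat.of B)).mapIso g ≪≫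
    ((DCoh.tildeD (CommRingCat.of B)).commShiftIso (1 : ℤ)).app _ ≪≫
    (shiftFunctor (DCoh.D (Spec (CommRingCat.of B))) (1 : ℤ)).mapIso (tildeUnitDIso (CommRingCat.of B))⟩⟩
  have hsq := AffineSpace.isPullback_map (n := σ) hV.fromSpec
  have hw : f x ∈ Set.range hV.fromSpec := by rw [hV.range_fromSpec]; exact hy
  have h4 : x ∈ Set.range (pullback.fst f hV.fromSpec) := by rw [Scheme.Pullback.range_fst]; exact hw
  obtain ⟨y, hy⟩ := h4
  refine ⟨(AffineSpace.SpecIso σ Γ(Y, V)).hom (hsq.isoPullback.inv y), ?_⟩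
  rw [← Scheme.Hom.comp_apply, Iso.hom_inv_id_assoc, ← Scheme.Hom.comp_apply, hsq.isoPullback_inv_fst]
  exact hy

set_option maxHeartbeats 4000000 in
/-- **`f^!O ≅ O[1]` for the affine line.** -/
theorem nonempty_shriekC_line_O [AlgebraicGeometry.IsNoetherian Y] (σ : Type u) [Unique σ]
    (c : DEt.Compactification (AffineSpace σ Y ↘ Y)) [DCoh.HasRpush c.fbar]
    (hc : DCoh.RpushPreservesQCoh c.fbar) {a : DCoh.DQCoh Y ⥤ DCoh.DQCoh c.Xbar}
    (adj : DCoh.RpushQ c.fbar hc ⊣ a) [PreservesFiniteLimits (Scheme.Modules.restrictFunctor c.j)]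
    (O : DCoh.DQCoh Y) (hO : Nonempty (O.obj ≅ DCoh.inD Y (Coh.structureModule Y))) :
    Nonempty ((Dual3.shriekC c a).obj O ≅ (DerivedCategory.Q.obj (unitCx (AffineSpace σ Y)))⟦(1 : ℤ)⟧) := by
  let X := AffineSpace σ Y
  let f : X ⟶ Y := AffineSpace σ Y ↘ Y
  haveI : LocallyOfFiniteType f := inferInstance
  haveI : IsLocallyNoetherian X := LocallyOfFiniteType.isLocallyNoetherian f
  haveI : CompactSpace X := QuasiCompact.compactSpace_of_compactSpace f
  haveI : AlgebraicGeometry.IsNoetherian X := {}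
  haveI : ∀ (U V : Scheme.{u}) (j : U ⟶ V) [IsOpenImmersion j],
      PreservesFiniteLimits (Scheme.Modules.restrictFunctor j) := fun _ _ _ _ => inferInstance
  let X' := pullback f f
  let g' : X' ⟶ X := pullback.fst f f
  let f' : X' ⟶ X := pullback.snd f f
  haveI : LocallyOfFiniteType f' := inferInstance
  haveI : IsLocallyNoetherian X' := LocallyOfFiniteType.isLocallyNoetherian f'
  haveI : CompactSpace X' := QuasiCompact.compactSpace_of_compactSpace f'
  haveI : AlgebraicGeometry.IsNoetherian X' := {}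
  let Xb := pullback c.fbar f
  let j' : X' ⟶ Xb := pullback.map f f c.fbar f c.j (𝟙 X) (𝟙 Y) (by simp [c.fac, f]) (by simp)
  let c' : DEt.Compactification f' :=
    ⟨Xb, j', pullback.snd c.fbar f, inferInstance, inferInstance, by simp [j', f']⟩
  haveI := isNoetherian_of_proper c'.fbar
  haveI : QuasiSeparated c'.fbar := inferInstance
  haveI : DCoh.HasRpush c'.fbar := KInj.hasRightDerivedFunctor _
  have hc' : DCoh.RpushPreservesQCoh c'.fbar := fun K hK =>
    KSix19.BettiExact.isQCohD_of_iso' ((rpushIsoRres c'.fbar).app K).symm (isQCohD_Rres c'.fbar K hK)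
  let adj' := (aQAdj c'.fbar).ofNatIsoLeft (rpushQIso c'.fbar hc').symm
  haveI := hasLpull f
  haveI := hasLpull g'
  have hLg : Dual3.LpullPreservesQCoh f := fun _ hK => TorBC25.isQCohD_lpull f hK
  obtain ⟨b⟩ := HomBC22.nonempty_shriekC_bc (IsPullback.of_hasPullback f f) c c' hc hc' adj adj' hLg
  have hO0 := ShriekBridge22.isGE_zero_of_iso_structure hO
  let O₁ : BQ Y := ⟨O, 0, hO0⟩
  let OX : DCoh.DQCoh X := (Dual3.LpullQ f hLg).obj O
  obtain ⟨l⟩ := Detect22.nonempty_lpull_unit f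
  obtain ⟨eO⟩ := id hO
  let eX : OX.obj ≅ DerivedCategory.Q.obj (unitCx X) := (DCoh.Lpull f).mapIso (eO ≪≫ (unitCxQIso Y).symm) ≪≫ l
  have hX0 : OX.obj.IsGE 0 := ShriekBridge22.isGE_zero_of_iso_structure ⟨eX ≪≫ unitCxQIso X⟩
  let O₂ : BQ X := ⟨OX, 0, hX0⟩
  obtain ⟨s⟩ := nonempty_shriekC c' hc' adj'
  haveI hj' : IsOpenImmersion c'.j := c'.isOpenImmersion
  haveI hp' : IsProper c'.fbar := c'.isProper
  let GB := (shB c'.j c'.fbar).obj O₂
  let E := (Dual3.shriekC c a).obj O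
  let eG : GB.obj.obj ≅ (DCoh.Lpull g').obj E := (b.app O₁ ≪≫ s.app O₂).symm
  -- `E[-1]` is invertible
  let E1 : DCoh.D X := E⟦(-1 : ℤ)⟧
  have hloc : ∀ x : X, ∃ (W : Scheme.{u}) (j : W ⟶ X) (_ : IsOpenImmersion j), x ∈ Set.range j ∧
      Nonempty ((resD j).obj E1 ≅ DerivedCategory.Q.obj (unitCx W)) := fun x => by
    obtain ⟨W, j, hj, hx, ⟨e⟩⟩ := exists_chart_shriek σ c hc adj O hO x
    exact ⟨W, j, hj, hx, ⟨((resD j).commShiftIso (-1 : ℤ)).app E ≪≫ (shiftFunctor (DCoh.D W) (-1 : ℤ)).mapIso e ≪≫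
      (shiftFunctorCompIsoId (DCoh.D W) (1 : ℤ) (-1 : ℤ) (add_neg_cancel _)).app _⟩⟩
  have hu : ∀ W : Scheme.{u}, DCoh.IsPerfect (DerivedCategory.Q.obj (unitCx W)) := fun W =>
    isPerfect_of_iso (isPerfect_unit W) (unitCxQIso W).symm
  have hE1 : DCoh.IsPerfect E1 := isPerfect_of_local fun x => by
    obtain ⟨W, j, hj, hx, ⟨e⟩⟩ := hloc x
    exact ⟨W, j, hj, hx, isPerfect_of_iso (hu W) e.symm⟩
  -- the diagonal
  let D := (pullback.diagonal f).ker
  let i := D.subschemeι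
  obtain ⟨r, hr⟩ := exists_diagonal_equation σ Y
  obtain ⟨w, hS⟩ := exists_principal_sequence D r hr
  have hri : i.appTop r = 0 := appTop_subschemeι_eq_zero D r fun x => by
    obtain ⟨U, hx, hU, -⟩ := hr x
    exact ⟨U, hx, hU.symm ▸ Ideal.mem_span_singleton_self _⟩
  have hker : i.ker = (pullback.diagonal f).ker := D.ker_subschemeι
  let e : X ⟶ D.subscheme := IsClosedImmersion.lift i (pullback.diagonal f) hker.le
  have he : e ≫ i = pullback.diagonal f := IsClosedImmersion.lift_fac _ _ _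
  haveI : IsIso e := IsClosedImmersion.isIso_of_ker_eq (pullback.diagonal f) i e he hker.symm
  let h : D.subscheme ⟶ X := i ≫ f'
  have hh : h = inv e := (IsIso.inv_eq_of_hom_inv_id (by
    rw [← Category.assoc, he]; exact pullback.diagonal_snd f)).symm
  haveI : IsIso h := by rw [hh]; infer_instance
  have hg : i ≫ g' = h := by
    rw [hh, ← cancel_epi e, ← Category.assoc, he, IsIso.hom_inv_id]; exact pullback.diagonal_fst f
  let Z := D.subscheme
  haveI : AlgebraicGeometry.IsNoetherian Z := isNoetherian_of_proper i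
  haveI : DCoh.HasRpush i := KInj.hasRightDerivedFunctor _
  have hi : DCoh.RpushPreservesQCoh i := fun K hK =>
    KSix19.BettiExact.isQCohD_of_iso' ((rpushIsoRres i).app K).symm (isQCohD_Rres i K hK)
  obtain ⟨u⟩ := nonempty_shB_comp (𝟙 Z) i c'.j c'.fbar h (𝟙 X) (Category.id_comp i) c'.fac
    (Category.comp_id h)
  let uh : (resD h).obj OX.obj ≅ ((aQ i).obj GB.obj).obj :=
    (BQι Z).mapIso ((resB h).mapIso (aBId.app O₂).symm ≪≫ u.app O₂ ≪≫ (resBId Z).app ((aB i).obj GB))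
  -- the formula
  haveI := hasLpull i
  haveI := hasLpull (i ≫ g')
  haveI := hasLpull h
  haveI : QuasiCompact g' := inferInstance
  haveI : DCoh.HasRpush g' := KInj.hasRightDerivedFunctor _
  obtain ⟨radj⟩ := nonempty_lpullAdj g'
  letI := TorBC25.lpullCommShift g' (radj.ofNatIsoRight (rpushIsoRres g'))
  let K : DCoh.DQCoh X' := ⟨(DCoh.Lpull g').obj E1, TorBC25.isQCohD_lpull g' (isQCohD_of_isPerfect hE1)⟩
  have hK : DCoh.IsPerfect K.obj := isPerfect_lpull g' hE1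
  let L : DCoh.DQCoh X' := ⟨(DCoh.inD X' (Coh.structureModule X'))⟦(1 : ℤ)⟧,
    isQCohD_of_isPerfect (isPerfect_shift (isPerfect_unit X') 1)⟩
  obtain ⟨P, hP, ⟨eP⟩⟩ := exists_kflat_rep K.obj
  haveI := hasLTensorCx P
  obtain ⟨t⟩ := Dual22.nonempty_ltensorCx_shift_unit P 1
  let eN : (DCoh.LTensorCx P).obj L.obj ≅ GB.obj.obj := t ≪≫ (shiftFunctor (DCoh.D X') (1 : ℤ)).mapIso eP ≪≫
    (((DCoh.Lpull g').commShiftIso (1 : ℤ)).app E1).symm ≪≫
    (DCoh.Lpull g').mapIso ((shiftFunctorCompIsoId (DCoh.D X) (-1 : ℤ) (1 : ℤ) (neg_add_cancel _)).app E) ≪≫ eG.symm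
  have hKL : DCoh.IsQCohD ((DCoh.LTensorCx P).obj L.obj) :=
    KSix19.BettiExact.isQCohD_of_iso' eN.symm GB.obj.property
  obtain ⟨W, hW, ⟨eW⟩⟩ := exists_kflat_rep ((aQ i).obj L).obj
  haveI := hasLTensorCx W
  obtain ⟨k⟩ := RightAdj20.nonempty_adjoint_ltensor i hi ((aQAdj i).ofNatIsoLeft (rpushQIso i hi).symm) K L hK P eP
    hKL W eW
  obtain ⟨lh⟩ := SuppTens22.nonempty_lpull_openImmersion h
  obtain ⟨lc⟩ := ShriekPerf22.lpull_congr hg
  let key : (resD h).obj OX.obj ≅ (DCoh.LTensorCx W).obj ((resD h).obj E1) :=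
    uh ≪≫ (ObjectProperty.ι _).mapIso ((aQ i).mapIso (ObjectProperty.isoMk _ eN.symm)) ≪≫ k ≪≫
      (DCoh.LTensorCx W).mapIso ((lpullCompIso i g').app E1 ≪≫ lc.app E1 ≪≫ lh.app E1)
  -- `a_i(O[1])` is a module
  have hWloc : ∀ z : Z, ∃ (V : Scheme.{u}) (j : V ⟶ Z) (_ : IsOpenImmersion j), z ∈ Set.range j ∧
      Nonempty ((resD j).obj (DerivedCategory.Q.obj W) ≅ DerivedCategory.Q.obj (unitCx V)) := fun z => by
    obtain ⟨V, j, hj, ⟨v, hv⟩, ⟨eE⟩⟩ := hloc (h z)
    haveI : IsOpenImmersion (j ≫ inv h) := IsOpenImmersion.comp (f := j) (g := inv h)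
    let k' : V ⟶ Z := j ≫ inv h
    have hk' : k' ≫ h = j := by simp [k']
    haveI : IsOpenImmersion (k' ≫ h) := by rw [hk']; exact hj
    haveI := hasLTensorCx ((resCx k').obj W)
    obtain ⟨c₁⟩ := Dual22.nonempty_resD_ltensorCx k' W ((resD h).obj E1)
    obtain ⟨c₂⟩ := Dual22.nonempty_ltensorCx_shift_unit ((resCx k').obj W) 0
    let eh : (resD k').obj ((resD h).obj E1) ≅ (DCoh.inD V (Coh.structureModule V))⟦(0 : ℤ)⟧ :=
      (resDCompIso k' h).app E1 ≪≫ (resDCongrIso hk').app E1 ≪≫ eE ≪≫ unitCxQIso V ≪≫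
        ((shiftFunctorZero (DCoh.D V) ℤ).app _).symm
    let eu : (resD k').obj ((resD h).obj OX.obj) ≅ DerivedCategory.Q.obj (unitCx V) :=
      (resD k').mapIso ((resD h).mapIso eX ≪≫ resUnitCxIso h) ≪≫ resUnitCxIso k'
    refine ⟨V, k', inferInstance, ⟨v, ?_⟩, ⟨(resDFac k').app W ≪≫ ((shiftFunctorZero (DCoh.D V) ℤ).app _).symm ≪≫
      c₂.symm ≪≫ (DCoh.LTensorCx ((resCx k').obj W)).mapIso eh.symm ≪≫ c₁.symm ≪≫ (resD k').mapIso key.symm ≪≫ eu⟩⟩
    show (inv h) (j v) = z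
    rw [hv, ← Scheme.Hom.comp_apply, IsIso.hom_inv_id]
    rfl
  let WD := DerivedCategory.Q.obj W
  have hW0 : ∀ n : ℤ, n ≠ 0 → IsZero (DCoh.HD WD n) := fun n hn => ShriekPerf22.isZero_HD_of_charts n fun z => by
    obtain ⟨V, j, hj, hz, ⟨ev⟩⟩ := hWloc z
    refine ⟨V, j, hj, hz, IsZero.of_iso ?_ ((DerivedCategory.homologyFunctor V.Modules n).mapIso (ev ≪≫ unitCxQIso V))⟩
    rcases lt_or_gt_of_ne hn with hlt | hgt
    · haveI := ShriekBridge22.isGE_zero_of_iso_structure (O := DCoh.inD V (Coh.structureModule V)) ⟨Iso.refl _⟩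
      exact DerivedCategory.isZero_of_isGE _ 0 n hlt
    · haveI : DerivedCategory.IsLE (DCoh.inD V (Coh.structureModule V)) 0 :=
        inferInstanceAs (DerivedCategory.IsLE ((DerivedCategory.singleFunctor V.Modules 0).obj _) 0)
      exact DerivedCategory.isZero_of_isLE _ 0 n hgt
  haveI : WD.IsGE 0 := (DerivedCategory.isGE_iff _ _).2 fun n hn => hW0 n (by omega)
  haveI : WD.IsLE 0 := (DerivedCategory.isLE_iff _ _).2 fun n hn => hW0 n (by omega)
  obtain ⟨M, ⟨eM⟩⟩ := DerivedCategory.exists_iso_singleFunctor_obj_of_isGE_of_isLE WD 0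
  obtain ⟨m⟩ := nonempty_iso_of_aQ i r hri (ClSub.toSubscheme D) w hS L (Iso.refl _) M (eW.symm ≪≫ eM)
  let eWu : DerivedCategory.Q.obj W ≅ DerivedCategory.Q.obj (unitCx Z) :=
    eM ≪≫ (DerivedCategory.singleFunctor Z.Modules 0).mapIso m ≪≫ (unitCxQIso Z).symm
  haveI := hasLTensorCx (unitCx Z)
  obtain ⟨cW⟩ := nonempty_ltensorCx_congr_of_iso eWu
  obtain ⟨tu⟩ := RightAdj22.nonempty_LTensorCx_unit (X := Z)
  let e1 : (resD h).obj E1 ≅ (resD h).obj OX.obj := ((cW ≪≫ tu).app _).symm ≪≫ key.symm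
  haveI : IsOpenImmersion (inv h ≫ h) := IsOpenImmersion.comp (f := inv h) (g := h)
  let back : ∀ A : DCoh.D X, (resD (inv h)).obj ((resD h).obj A) ≅ A := fun A =>
    (resDCompIso (inv h) h).app A ≪≫ (resDCongrIso (IsIso.inv_hom_id h)).app A ≪≫ (resDIdIso X).app A
  exact ⟨((shiftFunctorCompIsoId (DCoh.D X) (-1 : ℤ) (1 : ℤ) (neg_add_cancel _)).app E).symm ≪≫
    (shiftFunctor (DCoh.D X) (1 : ℤ)).mapIso ((back E1).symm ≪≫ (resD (inv h)).mapIso e1 ≪≫ back OX.obj ≪≫ eX)⟩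

end GrothLib.ShriekLine22
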