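import Groth.Agent.Lib.ShriekLine22.KillExt
import Groth.Agent.Lib.RightAdj22.QFun
import Groth.Agent.Lib.ShriekBridge22.ClosedRHom
import Groth.Agent.Lib.ClosedHom20.Basic
import Groth.Agent.Lib.Euler.Scalar
import Groth.Agent.Lib.ConnH0.Basic

/-! # The right adjoint of a closed immersion at the structure sheaf shifted, for a principal divisor -/

set_option autoImplicit false
set_option maxHeartbeats 1000000
set_option linter.style.haveILetI false
universe u

open CategoryTheory CategoryTheory.Limits AlgebraicGeometry GrothLib.OX GrothLib.RightAdj22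

attribute [local instance] HasDerivedCategory.standard

noncomputable section

namespace GrothLib.ShriekLine22

variable {X Z : Scheme.{u}}

/-- Multiplication by a global function, as a natural endomorphism. -/
def smulNat (r : Coh.Γtop X) : 𝟭 X.Modules ⟶ 𝟭 X.Modules where
  app E := Euler.smulMod E r
  naturality E E' g := by
    refine Scheme.Modules.hom_ext _ _ fun U => ConcreteCategory.hom_ext _ _ fun m => ?_
    exact (Scheme.Modules.Hom.app_smul g _ m).symm

theorem smulNat_push (i : Z ⟶ X) (r : Coh.Γtop X) (hr : i.appTop r = 0) (F : Z.Modules) :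
    (smulNat r).app ((Scheme.Modules.pushforward i).obj F) = 0 :=
  Scheme.Modules.hom_ext _ _ fun U => ConcreteCategory.hom_ext _ _ fun m => by
    change (i.app U (X.presheaf.map (homOfLE (le_top : U ≤ ⊤)).op r)) • (show Γ(F, i ⁻¹ᵁ U) from m) = 0
    have h : i.app U (X.presheaf.map (homOfLE (le_top : U ≤ ⊤)).op r) = 0 :=
      (ConcreteCategory.congr_hom (i.naturality (homOfLE (le_top : U ≤ ⊤)).op) r).trans
        ((congrArg (fun z => Z.presheaf.map _ z) hr).trans (map_zero _))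
    rw [h, zero_smul]

variable [AlgebraicGeometry.IsNoetherian X] (i : Z ⟶ X) [IsClosedImmersion i]

/-- **If `a_i(O[1])` is a module, it is the structure sheaf.** -/
theorem nonempty_iso_of_aQ (r : Coh.Γtop X) (hr : i.appTop r = 0)
    (q : Coh.structureModule X ⟶ (Scheme.Modules.pushforward i).obj (Coh.structureModule Z))
    (w : Euler.smulMod (Coh.structureModule X) r ≫ q = 0)
    (hS : (ShortComplex.mk _ q w).ShortExact) (L : DCoh.DQCoh X)
    (eL : L.obj ≅ (DCoh.inD X (Coh.structureModule X))⟦(1 : ℤ)⟧) (M : Z.Modules)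
    (eM : ((aQ i).obj L).obj ≅ DCoh.inD Z M) : Nonempty (M ≅ Coh.structureModule Z) := by
  obtain ⟨hfull, hfaith⟩ := ClosedHom20.full_faithful_pushforward i
  haveI := hfull
  haveI := hfaith
  let P := Scheme.Modules.pushforward i
  haveI : PreservesFiniteColimits P := preservesFiniteColimits_pushforward i
  obtain ⟨ρ⟩ := ShriekBridge22.nonempty_RR_pushD i
  let S := DerivedCategory.singleFunctor Z.Modules 0
  let T := DerivedCategory.singleFunctor X.Modules 0
  let κ : P ⋙ T ≅ S ⋙ RR i := (P.mapDerivedCategorySingleFunctor 0).symm ≪≫ Functor.isoWhiskerLeft S ρ.symm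
  let qO : DCoh.IsQCohD (S.obj (Coh.structureModule Z)) :=
    isQCohD_of_isPerfect (TorBC25.isPerfect_inD_structure Z)
  let qM : DCoh.IsQCohD (S.obj M) := KSix19.BettiExact.isQCohD_of_iso' eM ((aQ i).obj L).property
  let Ψ : ∀ (F : Z.Modules), DCoh.IsQCohD (S.obj F) → (F ⟶ M) → (T.obj (P.obj F) ⟶ (DCoh.inD X (Coh.structureModule X))⟦(1 : ℤ)⟧) :=
    fun F hF v => κ.hom.app F ≫
      (((aQAdj i).homEquiv ⟨S.obj F, hF⟩ L).symm (ObjectProperty.homMk (S.map v ≫ eM.inv))).hom ≫ eL.hom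
  have hΨ : ∀ F hF, Function.Bijective (Ψ F hF) := fun F hF => by
    refine ⟨fun v v' h => ?_, fun t => ?_⟩
    · have h1 := ObjectProperty.hom_ext _ ((cancel_mono eL.hom).1 ((cancel_epi (κ.hom.app F)).1 h))
      have h2 := congrArg (fun k => k.hom) (Equiv.injective _ h1)
      exact S.map_injective ((cancel_mono eM.inv).1 h2)
    · let g : (RRQ i).obj ⟨S.obj F, hF⟩ ⟶ L := ObjectProperty.homMk (κ.inv.app F ≫ t ≫ eL.inv)
      obtain ⟨v, hv⟩ := S.map_surjective (((aQAdj i).homEquiv ⟨S.obj F, hF⟩ L g).hom ≫ eM.hom)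
      refine ⟨v, ?_⟩
      have hk : (ObjectProperty.homMk (S.map v ≫ eM.inv) : (⟨S.obj F, hF⟩ : DCoh.DQCoh Z) ⟶ (aQ i).obj L) =
          (aQAdj i).homEquiv ⟨S.obj F, hF⟩ L g := ObjectProperty.hom_ext _ (by
        show S.map v ≫ eM.inv = _
        rw [hv, Category.assoc, eM.hom_inv_id, Category.comp_id])
      show κ.hom.app F ≫ _ ≫ eL.hom = t
      rw [hk, Equiv.symm_apply_apply]
      show κ.hom.app F ≫ (κ.inv.app F ≫ t ≫ eL.inv) ≫ eL.hom = t
      simp
  have hnat : ∀ F hF G hG (v : F ⟶ G) (v' : G ⟶ M), Ψ F hF (v ≫ v') = T.map (P.map v) ≫ Ψ G hG v' :=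
      fun F hF G hG v v' => by
    let m : (⟨S.obj F, hF⟩ : DCoh.DQCoh Z) ⟶ ⟨S.obj G, hG⟩ := ObjectProperty.homMk (S.map v)
    have hk : (ObjectProperty.homMk (S.map (v ≫ v') ≫ eM.inv) : (⟨S.obj F, hF⟩ : DCoh.DQCoh Z) ⟶ (aQ i).obj L) =
        m ≫ ObjectProperty.homMk (S.map v' ≫ eM.inv) := ObjectProperty.hom_ext _ (by
      show S.map (v ≫ v') ≫ eM.inv = S.map v ≫ S.map v' ≫ eM.inv
      rw [Functor.map_comp, Category.assoc])
    show κ.hom.app F ≫ _ ≫ eL.hom = T.map (P.map v) ≫ κ.hom.app G ≫ _ ≫ eL.hom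
    rw [hk, Adjunction.homEquiv_naturality_left_symm]
    have hn : T.map (P.map v) ≫ κ.hom.app G = κ.hom.app F ≫ (RR i).map (S.map v) := κ.hom.naturality v
    rw [reassoc_of% hn]
    exact congrArg (κ.hom.app F ≫ ·) (Category.assoc _ _ _)
  have hk : ∀ F : Z.Modules, Function.Bijective fun g : P.obj F ⟶ P.obj (Coh.structureModule Z) =>
      T.map g ≫ hS.singleδ := fun F =>
    bijective_comp_singleδ (smulNat r) hS (Iso.refl _) (by simp; rfl) (P.obj F) (smulNat_push i r hr F)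
  obtain ⟨u, hu⟩ := (hΨ _ qO).2 hS.singleδ
  obtain ⟨g, hg⟩ := (hk M).2 (Ψ M qM (𝟙 M))
  obtain ⟨v, rfl⟩ := P.map_surjective g
  have hu' : T.map (P.map u) ≫ Ψ M qM (𝟙 M) = hS.singleδ := by rw [← hnat _ qO, Category.comp_id, hu]
  refine ⟨⟨v, u, (hΨ M qM).1 ?_, P.map_injective ((hk _).1 ?_)⟩⟩
  · rw [hnat M qM _ qO, hu]
    exact hg
  · show T.map (P.map (u ≫ v)) ≫ hS.singleδ = T.map (P.map (𝟙 _)) ≫ hS.singleδ
    rw [P.map_comp, T.map_comp, Category.assoc, show T.map (P.map v) ≫ hS.singleδ = _ from hg, hu', P.map_id, T.map_id, Category.id_comp]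

end GrothLib.ShriekLine22
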