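import Mathlib.RingTheory.TensorProduct.MvPolynomial
import Mathlib.RingTheory.TensorProduct.Maps
import Mathlib.RingTheory.Ideal.Quotient.Operations
import Mathlib.Algebra.GroupWithZero.NonZeroDivisors

/-! # The diagonal ideal of a polynomial ring in one variable -/

set_option autoImplicit false
universe u

open TensorProduct

noncomputable section

namespace GrothLib.ShriekLine22

section Alg

variable {R : Type u} [CommRing R] {σ : Type u} [Unique σ]

theorem ker_lmul'_eq_span (B : Type u) [CommRing B] [Algebra R B] (s : B) (hs : Algebra.adjoin R {s} = ⊤) :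
    RingHom.ker (Algebra.TensorProduct.lmul' R (S := B)).toRingHom =
      Ideal.span {s ⊗ₜ[R] (1 : B) - (1 : B) ⊗ₜ[R] s} := by
  refine le_antisymm (fun z hz => ?_) (Ideal.span_le.2 (Set.singleton_subset_iff.2 (by simp)))
  set I := Ideal.span {s ⊗ₜ[R] (1 : B) - (1 : B) ⊗ₜ[R] s}
  let q := Ideal.Quotient.mkₐ R I
  have hq : q.comp (Algebra.TensorProduct.includeLeft : B →ₐ[R] B ⊗[R] B) =
      q.comp (Algebra.TensorProduct.includeRight : B →ₐ[R] B ⊗[R] B) :=
    AlgHom.ext_of_adjoin_eq_top hs fun x hx => by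
      rw [Set.mem_singleton_iff.1 hx]
      exact (Ideal.Quotient.mk_eq_mk_iff_sub_mem _ _).2 (Ideal.mem_span_singleton_self _)
  have key : ∀ z : B ⊗[R] B, q z = q (Algebra.TensorProduct.lmul' R z ⊗ₜ[R] (1 : B)) := by
    intro z
    induction z using TensorProduct.induction_on with
    | zero => simp
    | tmul a b =>
      rw [Algebra.TensorProduct.lmul'_apply_tmul, show a ⊗ₜ[R] b = (a ⊗ₜ[R] (1 : B)) * ((1 : B) ⊗ₜ[R] b) by simp,
        show (a * b) ⊗ₜ[R] (1 : B) = (a ⊗ₜ[R] (1 : B)) * (b ⊗ₜ[R] (1 : B)) by simp, map_mul, map_mul]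
      exact congrArg (q (a ⊗ₜ[R] (1 : B)) * ·) (AlgHom.congr_fun hq b).symm
    | add x y hx hy => rw [map_add, map_add, TensorProduct.add_tmul, map_add, hx, hy]
  refine Ideal.Quotient.eq_zero_iff_mem.1 ((key z).trans ?_)
  rw [show Algebra.TensorProduct.lmul' R z = 0 from hz, TensorProduct.zero_tmul, map_zero]

theorem C_sub_X_mem_nonZeroDivisors {B : Type u} [CommRing B] (a : B) :
    MvPolynomial.C a - MvPolynomial.X default ∈ nonZeroDivisors (MvPolynomial σ B) := by
  have hinj : Function.Injective
      (MvPolynomial.aeval (R := B) fun i : σ => MvPolynomial.X i + MvPolynomial.C a) :=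
    Function.LeftInverse.injective (g := MvPolynomial.aeval (R := B) fun i : σ => MvPolynomial.X i - MvPolynomial.C a)
      fun z => by
        rw [← AlgHom.comp_apply, show (MvPolynomial.aeval (R := B) fun i : σ => MvPolynomial.X i - MvPolynomial.C a).comp
          (MvPolynomial.aeval (R := B) fun i : σ => MvPolynomial.X i + MvPolynomial.C a) = AlgHom.id B _ from
            MvPolynomial.algHom_ext fun i => by simp]
        rfl
  refine mem_nonZeroDivisors_iff_right.2 fun z hz => hinj ?_
  have h := congrArg (MvPolynomial.aeval (R := B) fun i : σ => MvPolynomial.X i + MvPolynomial.C a) hz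
  rw [map_mul, map_sub, MvPolynomial.aeval_C, MvPolynomial.aeval_X, map_zero, MvPolynomial.algebraMap_eq,
    sub_add_cancel_right, mul_neg, neg_eq_zero] at h
  rw [map_zero]
  refine MvPolynomial.ext _ _ fun m => ?_
  have h' := congrArg (MvPolynomial.coeff (m + Finsupp.single default 1)) h
  rw [MvPolynomial.coeff_mul_X, MvPolynomial.coeff_zero] at h'
  rw [h', MvPolynomial.coeff_zero]

theorem sub_mem_nonZeroDivisors_of_equiv {T S : Type u} [CommRing T] [CommRing S] (e : T ≃+* S) (x y : T) (x' y' : S)
    (hx : e x = x') (hy : e y = y') (h : x' - y' ∈ nonZeroDivisors S) : x - y ∈ nonZeroDivisors T :=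
  mem_nonZeroDivisors_iff_right.2 fun z hz => e.injective <| by
    rw [map_zero]
    refine mem_nonZeroDivisors_iff_right.1 h _ ?_
    rw [← hx, ← hy, ← map_sub, ← map_mul, hz, map_zero]

theorem sub_mem_nonZeroDivisors :
    ((MvPolynomial.X default : MvPolynomial σ R) ⊗ₜ[R] (1 : MvPolynomial σ R) -
      (1 : MvPolynomial σ R) ⊗ₜ[R] MvPolynomial.X default) ∈ nonZeroDivisors (MvPolynomial σ R ⊗[R] MvPolynomial σ R) :=
  sub_mem_nonZeroDivisors_of_equiv (MvPolynomial.algebraTensorAlgEquiv (σ := σ) R (MvPolynomial σ R)).toRingEquiv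
    _ _ (MvPolynomial.C (MvPolynomial.X default)) (MvPolynomial.X default)
    (by
      show MvPolynomial.algebraTensorAlgEquiv R (MvPolynomial σ R) _ = _
      rw [MvPolynomial.algebraTensorAlgEquiv_tmul, map_one, Algebra.smul_def, mul_one]
      rfl)
    (by
      show MvPolynomial.algebraTensorAlgEquiv R (MvPolynomial σ R) _ = _
      rw [MvPolynomial.algebraTensorAlgEquiv_tmul, MvPolynomial.map_X, one_smul])
    (C_sub_X_mem_nonZeroDivisors (MvPolynomial.X default))

theorem adjoin_X : Algebra.adjoin R {(MvPolynomial.X default : MvPolynomial σ R)} = ⊤ := by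
  rw [← MvPolynomial.adjoin_range_X]
  exact congrArg _ (by ext; simp [Set.range_unique])

end Alg

end GrothLib.ShriekLine22
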