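import Groth.Agent.Lib.ShriekLine22.Principal
import Groth.Agent.Lib.ShriekLine22.DiagAlg
import Mathlib.AlgebraicGeometry.AffineSpace

/-! # The diagonal of the affine line is cut out by one function -/

set_option autoImplicit false
set_option maxHeartbeats 1000000
set_option linter.style.haveILetI false
set_option backward.isDefEq.respectTransparency false
universe u

open CategoryTheory CategoryTheory.Limits AlgebraicGeometry TensorProduct

noncomputable section

namespace GrothLib.ShriekLine22

section Chart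

variable {X Y : Scheme.{u}} (f : X ⟶ Y) [IsSeparated f] {R B : Type u} [CommRing R] [CommRing B] [Algebra R B]
  (jB : Spec (CommRingCat.of B) ⟶ X) [IsOpenImmersion jB] (iA : Spec (CommRingCat.of R) ⟶ Y) [IsOpenImmersion iA]
  (w : jB ≫ f = Spec.map (CommRingCat.ofHom (algebraMap R B)) ≫ iA)

/-- The product chart. -/
def chartProd : Spec (CommRingCat.of (B ⊗[R] B)) ⟶ pullback f f :=
  (pullbackSpecIso R B B).inv ≫ pullback.map _ _ f f jB jB iA w.symm w.symm

instance : IsOpenImmersion (chartProd f jB iA w) :=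
  IsOpenImmersion.comp (f := (pullbackSpecIso R B B).inv) (g := pullback.map _ _ f f jB jB iA w.symm w.symm)

theorem mem_range_chartProd (x : (pullback f f : Scheme.{u})) (h1 : pullback.fst f f x ∈ Set.range jB)
    (h2 : pullback.snd f f x ∈ Set.range jB) : x ∈ Set.range (chartProd f jB iA w) := by
  have : x ∈ Set.range (pullback.map _ _ f f jB jB iA w.symm w.symm) := by
    rw [Scheme.Pullback.range_map]; exact ⟨h1, h2⟩
  obtain ⟨y, rfl⟩ := this
  obtain ⟨z, rfl⟩ := (Scheme.homeoOfIso (pullbackSpecIso R B B).symm).surjective y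
  exact ⟨z, rfl⟩

theorem chartProd_fst : chartProd f jB iA w ≫ pullback.fst f f =
    Spec.map (CommRingCat.ofHom (Algebra.TensorProduct.includeLeftRingHom : B →+* B ⊗[R] B)) ≫ jB := by
  rw [chartProd, Category.assoc, pullback.lift_fst, ← Category.assoc, pullbackSpecIso_inv_fst]

theorem chartProd_snd : chartProd f jB iA w ≫ pullback.snd f f =
    Spec.map (CommRingCat.ofHom (Algebra.TensorProduct.includeRight (R := R) (A := B) (B := B)).toRingHom) ≫ jB := by
  rw [chartProd, Category.assoc, pullback.lift_snd, ← Category.assoc, pullbackSpecIso_inv_snd]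
  rfl

theorem lmul_left : Spec.map (CommRingCat.ofHom (Algebra.TensorProduct.lmul' R (S := B)).toRingHom) ≫
    Spec.map (CommRingCat.ofHom (Algebra.TensorProduct.includeLeftRingHom : B →+* B ⊗[R] B)) = 𝟙 _ := by
  rw [← Spec.map_comp, ← CommRingCat.ofHom_comp, ← Spec.map_id]
  exact congrArg (fun g => Spec.map (CommRingCat.ofHom g)) (RingHom.ext fun b => mul_one b)

theorem lmul_right : Spec.map (CommRingCat.ofHom (Algebra.TensorProduct.lmul' R (S := B)).toRingHom) ≫
    Spec.map (CommRingCat.ofHom (Algebra.TensorProduct.includeRight (R := R) (A := B) (B := B)).toRingHom) = 𝟙 _ := by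
  rw [← Spec.map_comp, ← CommRingCat.ofHom_comp, ← Spec.map_id]
  exact congrArg (fun g => Spec.map (CommRingCat.ofHom g)) (RingHom.ext fun b => one_mul b)

theorem isPullback_chartProd :
    IsPullback (Spec.map (CommRingCat.ofHom (Algebra.TensorProduct.lmul' R (S := B)).toRingHom)) jB
      (chartProd f jB iA w) (pullback.diagonal f) := by
  let il := Spec.map (CommRingCat.ofHom (Algebra.TensorProduct.includeLeftRingHom : B →+* B ⊗[R] B))
  let ir := Spec.map (CommRingCat.ofHom (Algebra.TensorProduct.includeRight (R := R) (A := B) (B := B)).toRingHom)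
  let μ := Spec.map (CommRingCat.ofHom (Algebra.TensorProduct.lmul' R (S := B)).toRingHom)
  have hw : μ ≫ chartProd f jB iA w = jB ≫ pullback.diagonal f := by
    apply pullback.hom_ext
    · rw [Category.assoc, chartProd_fst, ← Category.assoc, lmul_left, Category.id_comp, Category.assoc,
        pullback.diagonal_fst, Category.comp_id]
    · rw [Category.assoc, chartProd_snd, ← Category.assoc, lmul_right, Category.id_comp, Category.assoc,
        pullback.diagonal_snd, Category.comp_id]
  refine ⟨⟨hw⟩, ⟨PullbackCone.IsLimit.mk _ (fun s => s.fst ≫ il) (fun s => ?_) (fun s => ?_) fun s m h1 h2 => ?_⟩⟩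
  · haveI : Mono (chartProd f jB iA w) := inferInstance
    have hl : s.snd = s.fst ≫ il ≫ jB := by
      have := congrArg (· ≫ pullback.fst f f) s.condition
      simp only [Category.assoc, chartProd_fst, pullback.diagonal_fst, Category.comp_id] at this
      exact this.symm
    rw [← cancel_mono (chartProd f jB iA w), Category.assoc, Category.assoc, hw, s.condition, ← Category.assoc s.fst,
      ← Category.assoc (s.fst ≫ il), Category.assoc s.fst il jB, ← hl]
  · have := congrArg (· ≫ pullback.fst f f) s.condition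
    simp only [Category.assoc, chartProd_fst, pullback.diagonal_fst, Category.comp_id] at this
    rw [Category.assoc]
    exact this
  · rw [← cancel_mono jB, h2]
    have := congrArg (· ≫ pullback.fst f f) s.condition
    simp only [Category.assoc, chartProd_fst, pullback.diagonal_fst, Category.comp_id] at this
    rw [Category.assoc]
    exact this.symm

/-- **The ideal of the diagonal on a product chart.** -/
theorem ideal_diagonal_chart (a : B) (ha : Algebra.adjoin R {a} = ⊤)
    (hnz : (a ⊗ₜ[R] (1 : B) - (1 : B) ⊗ₜ[R] a) ∈ nonZeroDivisors (B ⊗[R] B)) (t : Γ(X, ⊤))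
    (ht : jB.appTop t = (Scheme.ΓSpecIso (CommRingCat.of B)).inv a) :
    let U : (pullback f f : Scheme.{u}).affineOpens :=
      ⟨chartProd f jB iA w ''ᵁ ⊤, (isAffineOpen_top (Spec (CommRingCat.of (B ⊗[R] B)))).image_of_isOpenImmersion _⟩
    let r : Γ((pullback f f : Scheme.{u}), U.1) := (pullback f f : Scheme.{u}).presheaf.map (homOfLE le_top).op
      ((pullback.fst f f).appTop t - (pullback.snd f f).appTop t)
    (pullback.diagonal f).ker.ideal U = Ideal.span {r} ∧ r ∈ nonZeroDivisors Γ((pullback f f : Scheme.{u}), U.1) := by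
  intro U r
  let P := chartProd f jB iA w
  let μ := Spec.map (CommRingCat.ofHom (Algebra.TensorProduct.lmul' R (S := B)).toRingHom)
  let T := Spec (CommRingCat.of (B ⊗[R] B))
  let φ : (B ⊗[R] B) ≃+* Γ((pullback f f : Scheme.{u}), U.1) :=
    ((Scheme.ΓSpecIso (CommRingCat.of (B ⊗[R] B))).symm ≪≫ (P.appIso ⊤).symm).commRingCatIsoToRingEquiv
  have hP : ∀ g : Γ((pullback f f : Scheme.{u}), ⊤), (pullback f f : Scheme.{u}).presheaf.map (homOfLE le_top).op g =
      (P.appIso ⊤).inv (P.appTop g) := fun g => by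
    refine Eq.trans ?_ (congrArg (P.appIso ⊤).inv (show (P.appIso ⊤).hom ((pullback f f : Scheme.{u}).presheaf.map
      (homOfLE (le_top : P ''ᵁ ⊤ ≤ ⊤)).op g) = P.appTop g from ?_))
    · exact ((P.appIso ⊤).commRingCatIsoToRingEquiv.symm_apply_apply _).symm
    · rw [Scheme.Hom.appIso_hom', Scheme.Hom.appLE]
      exact (ConcreteCategory.congr_hom ((Scheme.Hom.map_appLE_assoc P _ _ (𝟙 _))) g).trans (by simp [Scheme.Hom.appLE])
  have hr : r = φ (a ⊗ₜ[R] (1 : B) - (1 : B) ⊗ₜ[R] a) := by
    refine (hP _).trans (congrArg (P.appIso ⊤).inv ?_)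
    rw [map_sub, map_sub]
    refine congrArg₂ (· - ·) ?_ ?_
    · refine (ConcreteCategory.congr_hom ((Scheme.Hom.comp_appTop P (pullback.fst f f)).symm.trans
        ((congrArg Scheme.Hom.appTop (chartProd_fst f jB iA w)).trans (Scheme.Hom.comp_appTop _ _))) t).trans ?_
      exact (congrArg (fun z => (Spec.map (CommRingCat.ofHom
          (Algebra.TensorProduct.includeLeftRingHom : B →+* B ⊗[R] B))).appTop z) ht).trans
        (ConcreteCategory.congr_hom (Scheme.ΓSpecIso_inv_naturality (CommRingCat.ofHom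
          (Algebra.TensorProduct.includeLeftRingHom : B →+* B ⊗[R] B))) a).symm
    · refine (ConcreteCategory.congr_hom ((Scheme.Hom.comp_appTop P (pullback.snd f f)).symm.trans
        ((congrArg Scheme.Hom.appTop (chartProd_snd f jB iA w)).trans (Scheme.Hom.comp_appTop _ _))) t).trans ?_
      exact (congrArg (fun z => (Spec.map (CommRingCat.ofHom
          (Algebra.TensorProduct.includeRight (R := R) (A := B) (B := B)).toRingHom)).appTop z) ht).trans
        (ConcreteCategory.congr_hom (Scheme.ΓSpecIso_inv_naturality (CommRingCat.ofHom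
          (Algebra.TensorProduct.includeRight (R := R) (A := B) (B := B)).toRingHom)) a).symm
  refine ⟨?_, hr ▸ mem_nonZeroDivisors_iff_right.2 fun z hz => φ.symm.injective ?_⟩
  · have hsq := isPullback_chartProd f jB iA w
    have hk : (pullback.diagonal f).ker.comap P = μ.ker := by
      rw [← Scheme.IdealSheafData.ker_fst_of_isClosedImmersion (pullback.diagonal f) P,
        ← Scheme.Hom.ker_comp_of_isIso hsq.isoPullback.hom, hsq.isoPullback_hom_fst]
    have h2 := congrArg (fun I : T.IdealSheafData => I.ideal ⟨⊤, isAffineOpen_top T⟩) hk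
    simp only [Scheme.IdealSheafData.ideal_comap_of_isOpenImmersion] at h2
    rw [Scheme.Hom.ker_apply] at h2
    have h3 : ((pullback.diagonal f).ker.ideal U).comap φ.toRingHom =
        Ideal.span {a ⊗ₜ[R] (1 : B) - (1 : B) ⊗ₜ[R] a} := by
      rw [← ker_lmul'_eq_span B a ha, Scheme.Hom.ker_apply]
      refine Ideal.ext fun z => ?_
      refine (SetLike.ext_iff.1 h2 ((Scheme.ΓSpecIso (CommRingCat.of (B ⊗[R] B))).inv z)).trans ?_
      have hn := ConcreteCategory.congr_hom
        (Scheme.ΓSpecIso_inv_naturality (CommRingCat.ofHom (Algebra.TensorProduct.lmul' R (S := B)).toRingHom)) z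
      rw [show (μ.ker).ideal ⟨⊤, isAffineOpen_top T⟩ = RingHom.ker (μ.app ⊤).hom from μ.ker_apply _]
      show μ.appTop _ = 0 ↔ Algebra.TensorProduct.lmul' R z = 0
      constructor
      · intro h
        exact (Scheme.ΓSpecIso (CommRingCat.of B)).commRingCatIsoToRingEquiv.symm.injective
          ((hn.trans h).trans (map_zero _).symm)
      · intro h
        exact hn.symm.trans ((congrArg (fun y => (Scheme.ΓSpecIso (CommRingCat.of B)).inv y) h).trans (map_zero _))
    rw [hr, show ({φ (a ⊗ₜ[R] (1 : B) - (1 : B) ⊗ₜ[R] a)} : Set Γ((pullback f f : Scheme.{u}), U.1)) =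
      φ.toRingHom '' {a ⊗ₜ[R] (1 : B) - (1 : B) ⊗ₜ[R] a} from Set.image_singleton.symm, ← Ideal.map_span, ← h3,
      Ideal.map_comap_of_surjective φ.toRingHom φ.surjective]
  · rw [map_zero]
    exact mem_nonZeroDivisors_iff_right.1 hnz _ (by
      have := congrArg φ.symm hz
      rwa [map_mul, φ.symm_apply_apply, map_zero] at this)

end Chart

/-- **The diagonal of the affine line is cut out by one function.** -/
theorem exists_diagonal_equation (σ : Type u) [Unique σ] (Y : Scheme.{u}) :
    ∃ r : Coh.Γtop (pullback (AffineSpace σ Y ↘ Y) (AffineSpace σ Y ↘ Y)),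
      ∀ x : (pullback (AffineSpace σ Y ↘ Y) (AffineSpace σ Y ↘ Y) : Scheme.{u}),
      ∃ U : (pullback (AffineSpace σ Y ↘ Y) (AffineSpace σ Y ↘ Y) : Scheme.{u}).affineOpens, x ∈ U.1 ∧
        (pullback.diagonal (AffineSpace σ Y ↘ Y)).ker.ideal U = Ideal.span
          {((pullback (AffineSpace σ Y ↘ Y) (AffineSpace σ Y ↘ Y) : Scheme.{u}).presheaf.map
            (homOfLE (le_top : U.1 ≤ ⊤)).op r)} ∧
        ((pullback (AffineSpace σ Y ↘ Y) (AffineSpace σ Y ↘ Y) : Scheme.{u}).presheaf.map
            (homOfLE (le_top : U.1 ≤ ⊤)).op r) ∈ nonZeroDivisors _ := by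
  let f := AffineSpace σ Y ↘ Y
  let t := AffineSpace.coord Y (default : σ)
  refine ⟨(pullback.fst f f).appTop t - (pullback.snd f f).appTop t, fun x => ?_⟩
  obtain ⟨V, hV, hy, -⟩ := exists_isAffineOpen_mem_and_subset (x := f (pullback.fst f f x)) (U := ⊤) trivial
  let jB : Spec (CommRingCat.of (MvPolynomial σ Γ(Y, V))) ⟶ AffineSpace σ Y :=
    (AffineSpace.SpecIso σ Γ(Y, V)).inv ≫ AffineSpace.map σ hV.fromSpec
  have w : jB ≫ f = Spec.map (CommRingCat.ofHom (algebraMap Γ(Y, V) (MvPolynomial σ Γ(Y, V)))) ≫ hV.fromSpec := by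
    rw [Category.assoc, AffineSpace.map_over, AffineSpace.SpecIso_inv_over_assoc]
    rfl
  haveI : IsOpenImmersion (AffineSpace.map σ hV.fromSpec) :=
    MorphismProperty.of_isPullback (P := @IsOpenImmersion) (AffineSpace.isPullback_map hV.fromSpec).flip inferInstance
  haveI : IsOpenImmersion jB :=
    IsOpenImmersion.comp (f := (AffineSpace.SpecIso σ Γ(Y, V)).inv) (g := AffineSpace.map σ hV.fromSpec)
  have hrange : ∀ z, f z ∈ V → z ∈ Set.range jB := fun z hz => by
    have h1 : z ∈ Set.range (AffineSpace.map σ hV.fromSpec) := by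
      have hsq := AffineSpace.isPullback_map (n := σ) hV.fromSpec
      have hw : f z ∈ Set.range hV.fromSpec := by rw [hV.range_fromSpec]; exact hz
      have h4 : z ∈ Set.range (pullback.fst f hV.fromSpec) := by rw [Scheme.Pullback.range_fst]; exact hw
      obtain ⟨y, hy⟩ := h4
      refine ⟨hsq.isoPullback.inv y, ?_⟩
      rw [← Scheme.Hom.comp_apply, hsq.isoPullback_inv_fst]
      exact hy
    obtain ⟨y, rfl⟩ := h1
    obtain ⟨z', rfl⟩ := (Scheme.homeoOfIso (AffineSpace.SpecIso σ Γ(Y, V)).symm).surjective y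
    exact ⟨z', rfl⟩
  have ht : jB.appTop t = (Scheme.ΓSpecIso (CommRingCat.of (MvPolynomial σ Γ(Y, V)))).inv (MvPolynomial.X default) := by
    rw [Scheme.Hom.comp_appTop]
    refine Eq.trans ?_ (AffineSpace.SpecIso_inv_appTop_coord Γ(Y, V) default)
    exact congrArg (fun z => (AffineSpace.SpecIso σ Γ(Y, V)).inv.appTop z)
      (AffineSpace.map_appTop_coord (n := σ) hV.fromSpec default)
  have h2 : f (pullback.snd f f x) ∈ V := by
    have h3 : f (pullback.fst f f x) = f (pullback.snd f f x) := by
      rw [← Scheme.Hom.comp_apply, ← Scheme.Hom.comp_apply, pullback.condition]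
    exact h3 ▸ hy
  refine ⟨_, ?_, ideal_diagonal_chart f jB hV.fromSpec w (MvPolynomial.X default) adjoin_X sub_mem_nonZeroDivisors t ht⟩
  obtain ⟨z, hz⟩ := mem_range_chartProd f jB hV.fromSpec w x (hrange _ hy) (hrange _ h2)
  exact ⟨z, trivial, hz⟩

end GrothLib.ShriekLine22
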