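import Mathlib.Algebra.Homology.DerivedCategory.SingleTriangle
import Mathlib.Algebra.Homology.DerivedCategory.FullyFaithful
import Mathlib.CategoryTheory.Triangulated.Yoneda

/-! # First extensions into an object of objects killed by a natural endomorphism -/

set_option autoImplicit false
set_option linter.style.haveILetI false
universe w v u

open CategoryTheory CategoryTheory.Limits DerivedCategory

namespace GrothLib.ShriekLine22

variable {C : Type u} [Category.{v} C] [Abelian C] [HasDerivedCategory.{w} C] (ν : 𝟭 C ⟶ 𝟭 C)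

/-- A natural endomorphism acts on complexes. -/
noncomputable def natC : 𝟭 (CochainComplex C ℤ) ⟶ 𝟭 (CochainComplex C ℤ) where
  app K := { f := fun n => ν.app (K.X n), comm' := fun i j _ => (ν.naturality (K.d i j)).symm }
  naturality K L f := by ext n; exact ν.naturality (f.f n)

/-- A natural endomorphism acts on the derived category. -/
noncomputable def natD : 𝟭 (DerivedCategory C) ⟶ 𝟭 (DerivedCategory C) :=
  Localization.liftNatTrans Q (HomologicalComplex.quasiIso C (ComplexShape.up ℤ)) Q Q (𝟭 _) (𝟭 _)
    (Functor.whiskerRight (natC ν) Q)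

theorem natD_Q (K : CochainComplex C ℤ) : (natD ν).app (Q.obj K) = Q.map ((natC ν).app K) := by
  refine (Localization.liftNatTrans_app Q (HomologicalComplex.quasiIso C (ComplexShape.up ℤ)) Q Q (𝟭 _) (𝟭 _)
    (Functor.whiskerRight (natC ν) Q) K).trans ?_
  simp only [Localization.Lifting.iso, Functor.whiskerRight_app]
  erw [Category.id_comp, Category.comp_id]

theorem natD_single (n : ℤ) (X : C) :
    (natD ν).app ((singleFunctor C n).obj X) = (singleFunctor C n).map (ν.app X) := by
  let e := (SingleFunctors.evaluation _ _ n).mapIso (singleFunctorsPostcompQIso C)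
  have h1 : (natD ν).app _ ≫ e.hom.app X = e.hom.app X ≫ (natD ν).app _ := ((natD ν).naturality (e.hom.app X)).symm
  have h2 : (singleFunctor C n).map (ν.app X) ≫ e.hom.app X = e.hom.app X ≫ _ := e.hom.naturality (ν.app X)
  haveI : IsIso (e.hom.app X) := inferInstance
  refine (cancel_mono (e.hom.app X)).1 ?_
  refine Eq.trans ?_ h2.symm
  refine h1.trans (congrArg (e.hom.app X ≫ ·) ?_)
  refine (natD_Q ν _).trans (congrArg Q.map (HomologicalComplex.hom_ext _ _ fun m => ?_))
  change ν.app (((HomologicalComplex.single C (ComplexShape.up ℤ) n).obj X).X m) =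
    ((HomologicalComplex.single C (ComplexShape.up ℤ) n).map (ν.app X)).f m
  by_cases hm : m = n
  · subst hm
    rw [HomologicalComplex.single_map_f_self]
    have := ν.naturality (HomologicalComplex.singleObjXSelf (ComplexShape.up ℤ) m X).hom
    exact (Iso.eq_comp_inv _).2 this.symm |>.trans (Category.assoc _ _ _)
  · exact (HomologicalComplex.isZero_single_obj_X (ComplexShape.up ℤ) n X m hm).eq_of_src _ _

variable {S : ShortComplex C} (hS : S.ShortExact)

/-- **The connecting map classifies the first extensions of killed objects.** -/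
theorem bijective_comp_singleδ (e : S.X₂ ≅ S.X₁) (hν : S.f ≫ e.hom = ν.app S.X₁)
    (F : C) (hF : ν.app F = 0) :
    Function.Bijective fun g : F ⟶ S.X₃ => (singleFunctor C 0).map g ≫ hS.singleδ := by

  haveI := hS.mono_f
  have hzero : ∀ g : F ⟶ S.X₂, g = 0 := fun g => by
    have h := ν.naturality (g ≫ e.hom)
    simp only [Functor.id_map] at h
    rw [hF, zero_comp, ← hν] at h
    have h' : (g ≫ e.hom ≫ S.f) ≫ e.hom = 0 := by simpa [Category.assoc] using h
    haveI : Mono (e.hom ≫ S.f) := mono_comp _ _
    exact (cancel_mono (e.hom ≫ S.f)).1 (by rw [zero_comp]; exact (cancel_mono e.hom).1 (h'.trans zero_comp.symm))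
  have hT := hS.singleTriangle_distinguished
  refine ⟨fun g g' hg => ?_, fun t => ?_⟩
  · have h0 : (singleFunctor C 0).map (g - g') ≫ hS.singleδ = 0 := by
      rw [Functor.map_sub, Preadditive.sub_comp]; exact sub_eq_zero.2 hg
    obtain ⟨h, hh⟩ := Pretriangulated.Triangle.coyoneda_exact₃ _ hT ((singleFunctor C 0).map (g - g')) h0
    obtain ⟨h₀, rfl⟩ := (singleFunctor C 0).map_surjective h
    change _ = (singleFunctor C 0).map h₀ ≫ (singleFunctor C 0).map S.g at hh
    rw [hzero h₀, Functor.map_zero, zero_comp] at hh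
    exact sub_eq_zero.1 ((singleFunctor C 0).map_injective (hh.trans (Functor.map_zero _ _ _).symm))
  · have hf1 : t ≫ ((singleFunctor C 0).map S.f)⟦(1 : ℤ)⟧' = 0 := by
      rw [← cancel_mono (((singleFunctor C 0).map e.hom)⟦(1 : ℤ)⟧'), zero_comp, Category.assoc, ← Functor.map_comp,
        ← Functor.map_comp, hν]
      let i := ((DerivedCategory.singleFunctors C).shiftIso 1 (-1) 0 (by norm_num)).app S.X₁
      have h1 : ((singleFunctor C 0).map (ν.app S.X₁))⟦(1 : ℤ)⟧' ≫ i.hom = i.hom ≫ (singleFunctor C (-1)).map (ν.app S.X₁) :=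
        ((DerivedCategory.singleFunctors C).shiftIso 1 (-1) 0 (by norm_num)).hom.naturality (ν.app S.X₁)
      have h2 : ((singleFunctor C 0).map (ν.app S.X₁))⟦(1 : ℤ)⟧' = (natD ν).app _ := by
        rw [← cancel_mono i.hom, h1, ← natD_single]
        exact (natD ν).naturality i.hom
      rw [h2]
      refine ((natD ν).naturality t).trans ?_
      rw [natD_single, hF, Functor.map_zero]
      exact zero_comp
    obtain ⟨h, hh⟩ := Pretriangulated.Triangle.coyoneda_exact₁ _ hT t hf1
    obtain ⟨g, rfl⟩ := (singleFunctor C 0).map_surjective h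
    exact ⟨g, hh.symm⟩

end GrothLib.ShriekLine22
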