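import Groth.Agent.Lib.ShriekLine22.Closed
import Groth.Agent.Lib.IdealModSec.Basic

/-! # The sequence of a principal effective Cartier divisor -/

set_option autoImplicit false
set_option maxHeartbeats 1000000
set_option linter.style.haveILetI false
universe u

open CategoryTheory CategoryTheory.Limits AlgebraicGeometry TopologicalSpace Opposite GrothLib.InvExt

noncomputable section

namespace GrothLib.ShriekLine22

variable {X : Scheme.{u}}

theorem appTop_subschemeι_eq_zero (D : X.IdealSheafData) (r : Coh.Γtop X)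
    (h : ∀ x : X, ∃ U : X.affineOpens, x ∈ U.1 ∧
      (X.presheaf.map (homOfLE (le_top : U.1 ≤ ⊤)).op r : Γ(X, U.1)) ∈ D.ideal U) :
    D.subschemeι.appTop r = 0 := by
  choose U hxU hU using h
  refine D.subscheme.sheaf.eq_of_locally_eq' (fun x : X => D.subschemeι ⁻¹ᵁ (U x).1) ⊤
    (fun x => homOfLE le_top) (fun z _ => Opens.mem_iSup.2 ⟨D.subschemeι z, hxU _⟩) _ _ fun x => ?_
  have h1 := hU x
  rw [← D.ker_subschemeι_app (U x)] at h1
  refine Eq.trans ?_ (map_zero _).symm
  exact (ConcreteCategory.congr_hom (D.subschemeι.naturality (homOfLE (le_top : (U x).1 ≤ ⊤)).op) r).symm.trans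
    (RingHom.mem_ker.1 h1)

/-- **The sequence of a divisor cut out by a global function.** -/
theorem exists_principal_sequence (D : X.IdealSheafData) (r : Coh.Γtop X)
    (h : ∀ x : X, ∃ U : X.affineOpens, x ∈ U.1 ∧
      D.ideal U = Ideal.span {(X.presheaf.map (homOfLE (le_top : U.1 ≤ ⊤)).op r : Γ(X, U.1))} ∧
      (X.presheaf.map (homOfLE (le_top : U.1 ≤ ⊤)).op r : Γ(X, U.1)) ∈ nonZeroDivisors Γ(X, U.1)) :
    ∃ w : Euler.smulMod (Coh.structureModule X) r ≫ ClSub.toSubscheme D = 0,
      (ShortComplex.mk (Euler.smulMod (Coh.structureModule X) r) (ClSub.toSubscheme D) w).ShortExact := by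
  have hr : D.subschemeι.appTop r = 0 := appTop_subschemeι_eq_zero D r fun x => by
    obtain ⟨U, hx, hU, -⟩ := h x
    exact ⟨U, hx, hU ▸ Ideal.mem_span_singleton_self _⟩
  have w : Euler.smulMod (Coh.structureModule X) r ≫ ClSub.toSubscheme D = 0 := by
    refine ((smulNat r).naturality (ClSub.toSubscheme D)).symm.trans ?_
    rw [smulNat_push D.subschemeι r hr]
    exact comp_zero
  let l : Coh.structureModule X ⟶ ClSub.idealMod D := kernel.lift _ _ w
  have hl : l ≫ ClSub.idealModι D = Euler.smulMod (Coh.structureModule X) r := kernel.lift_ι _ _ _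
  let e : Γ(ClSub.idealMod D, ⊤) := l.app ⊤ (1 : Γ(X, ⊤))
  have hval : ∀ (U : X.Opens), IdealModSec.val D U (mres _ (le_top : U ≤ ⊤) e) = fres X (le_top : U ≤ ⊤) r :=
      fun U => by
    rw [IdealModSec.val_mres]
    refine congrArg (fres X (le_top : U ≤ ⊤)) ?_
    refine (congrArg (fun t : Coh.structureModule X ⟶ Coh.structureModule X => t.app ⊤ (1 : Γ(X, ⊤))) hl).trans ?_
    rw [Euler.smulMod_app]
    show (X.presheaf.map (homOfLE (le_top : (⊤ : X.Opens) ≤ ⊤)).op r : Γ(X, ⊤)) * (1 : Γ(X, ⊤)) = r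
    rw [mul_one, show (homOfLE (le_top : (⊤ : X.Opens) ≤ ⊤)).op = 𝟙 _ from rfl, X.presheaf.map_id]
    rfl
  choose U hxU hU hnz using h
  have hgen : IsGen (ClSub.idealMod D) ⊤ e := isGen_of_cover (fun x : X => (U x).1) (fun _ => le_top)
    (fun z _ => Opens.mem_iSup.2 ⟨z, hxU z⟩) fun x => IdealModSec.isGen_of_cartierOn
      (by rw [hval]; exact hnz x) (by rw [hval]; exact hU x)
  haveI : IsIso l := Scheme.Modules.Hom.isIso_iff_isIso_app.2 fun W => by
    refine (ConcreteCategory.isIso_iff_bijective _).2 ?_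
    have happ : ∀ c : Γ(X, W), l.app W c = c • mres _ (le_top : W ≤ ⊤) e := fun c => by
      have h1 : l.app W (1 : Γ(X, W)) = mres _ (le_top : W ≤ ⊤) e := by
        refine Eq.trans ?_ (ConcreteCategory.congr_hom (l.mapPresheaf.naturality (homOfLE (le_top : W ≤ ⊤)).op) (1 : Γ(X, ⊤)))
        exact congrArg (l.app W) (map_one (X.presheaf.map (homOfLE (le_top : W ≤ ⊤)).op).hom).symm
      rw [← h1]
      refine Eq.trans ?_ (Scheme.Modules.Hom.app_smul l c (1 : Γ(X, W)))
      exact congrArg (l.app W) (mul_one c).symm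
    have hb := hgen W le_top
    refine ⟨fun c d hcd => ?_, fun m => ?_⟩
    · exact hb.1 ((happ c).symm.trans (hcd.trans (happ d)))
    · obtain ⟨c, hc⟩ := hb.2 m
      exact ⟨c, (happ c).trans hc⟩
  refine ⟨w, ShortComplex.shortExact_of_iso ?_ (ConnH0.shortExact_ideal D)⟩
  exact ShortComplex.isoMk (asIso l).symm (Iso.refl _) (Iso.refl _)
    (by show inv l ≫ _ = _ ≫ 𝟙 _; rw [Category.comp_id, IsIso.inv_comp_eq, hl]) (by simp)

end GrothLib.ShriekLine22
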